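import Groth.Prelude.Def_NonAbH1
import Mathlib.CategoryTheory.Sites.Subsheaf

/-!
The boundary map of the nonabelian cohomology sequence on an arbitrary site: existence, torsor
property and uniqueness of the fibre torsor, exactness at `H¹(F)`, the fibres of `∂`.
-/

set_option autoImplicit false
universe w v u

open CategoryTheory Opposite

namespace Groth.Agent.NonAbBoundary

variable {C : Type u} [Category.{v} C] {J : GrothendieckTopology C}

lemma sheafFor (P : Sheaf J (Type w)) {U : C} {S : Sieve U} (hS : S ∈ J U) :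
    Presieve.IsSheafFor P.obj (S : Presieve U) :=
  (isSheaf_iff_isSheaf_of_type J _).mp P.property S hS

lemma sep (P : Sheaf J (Type w)) {U : C} {S : Sieve U} (hS : S ∈ J U) {x y : P.obj.obj (op U)}
    (h : ∀ ⦃V : C⦄ (a : V ⟶ U), S a → P.obj.map a.op x = P.obj.map a.op y) : x = y :=
  (sheafFor P hS).isSeparatedFor.ext (fun V a ha => h a ha)

/-- A natural map to `P` which is constant on the sections of a locally nonempty sheaf comes from
a global section of `P`. -/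
lemma glueGlobal {T P : Sheaf J (Type w)}
    (hne : ∀ U : C, ∃ S ∈ J U, ∀ ⦃V : C⦄ (f : V ⟶ U), S f → Nonempty (T.obj.obj (op V)))
    (ψ : T ⟶ P) (hconst : ∀ (U : Cᵒᵖ) (t t' : T.obj.obj U), ψ.hom.app U t = ψ.hom.app U t') :
    ∃ s : P.obj.sections, ∀ (U : Cᵒᵖ) (t : T.obj.obj U), ψ.hom.app U t = s.1 U := by
  choose S hS hSne using hne
  let fam (U : C) : Presieve.FamilyOfElements P.obj (S U : Presieve U) :=
    fun V a ha => ψ.hom.app (op V) (hSne U a ha).some
  have hnat : ∀ {V W : C} (g : W ⟶ V) (t : T.obj.obj (op V)),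
      P.obj.map g.op (ψ.hom.app (op V) t) = ψ.hom.app (op W) (T.obj.map g.op t) :=
    fun g t => (NatTrans.naturality_apply ψ.hom g.op t).symm
  have hfam : ∀ U, (fam U).Compatible := fun U Y₁ Y₂ W g₁ g₂ f₁ f₂ h₁ h₂ _ => by
    change P.obj.map g₁.op (ψ.hom.app _ _) = P.obj.map g₂.op (ψ.hom.app _ _)
    rw [hnat, hnat]; exact hconst _ _ _
  let s (U : C) : P.obj.obj (op U) := (sheafFor P (hS U)).amalgamate (fam U) (hfam U)
  have key : ∀ (U : C) (t : T.obj.obj (op U)), ψ.hom.app (op U) t = s U := fun U t => by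
    refine sep P (hS U) fun V a ha => ?_
    rw [hnat]
    exact (hconst _ _ _).trans ((sheafFor P (hS U)).valid_glue (hfam U) a ha).symm
  refine ⟨⟨fun U => s U.unop, ?_⟩, fun U t => key U.unop t⟩
  intro U V f
  change P.obj.map f (s U.unop) = s V.unop
  refine sep P (hS V.unop) fun W a ha => ?_
  rw [← ConcreteCategory.comp_apply, ← Functor.map_comp]
  obtain ⟨t⟩ := hSne V.unop a ha
  have e1 : P.obj.map a.op (s V.unop) = ψ.hom.app (op W) t :=
    ((sheafFor P (hS V.unop)).valid_glue (hfam V.unop) a ha).trans (hconst _ _ _)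
  rw [e1]
  have h2 : ∀ {V' : C} (g : V' ⟶ U.unop) (t : T.obj.obj (op V')),
      P.obj.map g.op (s U.unop) = ψ.hom.app (op V') t := fun {V'} g t => by
    refine sep P (hS V') fun X b hb => ?_
    rw [hnat]
    obtain ⟨S', hS', hh⟩ : ∃ S' ∈ J X, ∀ ⦃Y⦄ (c : Y ⟶ X), S' c → S U.unop (c ≫ b ≫ g) :=
      ⟨_, J.pullback_stable (b ≫ g) (hS U.unop), fun Y c hc => hc⟩
    refine sep P hS' fun Y c hc => ?_
    rw [hnat]
    have e : P.obj.map c.op (P.obj.map b.op (P.obj.map g.op (s U.unop))) =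
        P.obj.map (c ≫ b ≫ g).op (s U.unop) := by
      simp [op_comp, Functor.map_comp]
    rw [e]
    exact ((sheafFor P (hS U.unop)).valid_glue (hfam U.unop) _ (hh c hc)).trans (hconst _ _ _)
  exact h2 (a ≫ f.unop) t

variable [J.HasSheafCompose (forget GrpCat.{w})]
variable {F G : Sheaf J GrpCat.{w}} {u : F ⟶ G}
  {Q : NonAbH1.GSheaf G} {π : NonAbH1.GSheaf.trivial G ⟶ Q}

open NonAbH1 NonAbH1.GSheaf

lemma π_mul (π : GSheaf.trivial G ⟶ Q) {U : Cᵒᵖ} (g h : G.obj.obj U) :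
    π.hom.hom.app U (ofGrp (g * h)) = Q.smul g (π.hom.hom.app U (ofGrp h)) :=
  π.map_smul g (ofGrp h)

lemma π_map (π : GSheaf.trivial G ⟶ Q) {U V : Cᵒᵖ} (i : U ⟶ V) (g : (uSh G).obj.obj U) :
    π.hom.hom.app V ((uSh G).obj.map i g) = Q.P.obj.map i (π.hom.hom.app U g) :=
  NatTrans.naturality_apply π.hom.hom i g

variable (π) in
/-- The subfunctor of liftings of `c`. -/
def liftsSub (c : Q.P.obj.sections) : Subfunctor (uSh G).obj where
  obj U := {g | π.hom.hom.app U g = c.1 U}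
  map {U V} i g hg := by
    change π.hom.hom.app V ((uSh G).obj.map i g) = c.1 V
    exact ((π_map π i g).trans (congrArg _ hg)).trans (c.2 i)

lemma liftsSub_isSheaf (c : Q.P.obj.sections) :
    Presheaf.IsSheaf J (liftsSub π c).toFunctor := by
  rw [isSheaf_iff_isSheaf_of_type]
  rw [Subfunctor.isSheaf_iff _ ((isSheaf_iff_isSheaf_of_type J _).mp (uSh G).property)]
  intro U g hg
  refine sep Q.P hg fun V a ha => ?_
  change π.hom.hom.app (op V) ((uSh G).obj.map a.op g) = c.1 (op V) at ha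
  exact ((π_map π a.op g).symm.trans ha).trans (c.2 a.op).symm

/-- The fibre of `π` over `c`. -/
def fibre (hQ : IsQuotientBy u π) (c : Q.P.obj.sections) : GSheaf F where
  P := ⟨(liftsSub π c).toFunctor, liftsSub_isSheaf c⟩
  smul {U} f t := ⟨ofGrp (toGrp t.1 * (u.hom.app U f)⁻¹), by
    change π.hom.hom.app U (ofGrp _) = c.1 U
    rw [← ((hQ.1 U (toGrp t.1) (toGrp t.1 * (u.hom.app U f)⁻¹)).2 ⟨f⁻¹, by rw [map_inv]⟩)]
    exact t.2⟩
  one_smul {U} t := Subtype.ext <| by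
    change toGrp t.1 * (u.hom.app U 1)⁻¹ = toGrp t.1
    rw [map_one, inv_one, mul_one]
  mul_smul {U} f g t := Subtype.ext <| by
    change toGrp t.1 * (u.hom.app U (f * g))⁻¹ =
      toGrp t.1 * (u.hom.app U g)⁻¹ * (u.hom.app U f)⁻¹
    rw [map_mul, mul_inv_rev, mul_assoc]
  map_smul {U V} i f t := Subtype.ext <| by
    change G.obj.map i (toGrp t.1 * (u.hom.app U f)⁻¹) =
      G.obj.map i (toGrp t.1) * (u.hom.app V (F.obj.map i f))⁻¹
    rw [map_mul, map_inv, NatTrans.naturality_apply u.hom i f]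

lemma fibre_isFibreOver (hQ : IsQuotientBy u π) (c : Q.P.obj.sections) :
    IsFibreOver u π c (fibre hQ c) := by
  refine ⟨⟨(liftsSub π c).ι⟩, fun U x y h => Subtype.ext h, fun U g => ⟨?_, ?_⟩, fun U f t => rfl⟩
  · rintro ⟨t, rfl⟩; exact t.2
  · intro h; exact ⟨⟨ofGrp g, h⟩, rfl⟩

/-- Any fibre over `c` is a torsor. -/
lemma isTorsor_of_isFibreOver (hu : ∀ U : Cᵒᵖ, Function.Injective (u.hom.app U))
    (hQ : IsQuotientBy u π) {c : Q.P.obj.sections} {T : GSheaf F} (hT : IsFibreOver u π c T) :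
    T.IsTorsor := by
  obtain ⟨ι, hinj, him, hsmul⟩ := hT
  refine ⟨fun U p q => ?_, fun U => ?_⟩
  · obtain ⟨f, hf⟩ := (hQ.1 U (toGrp (ι.hom.app U p)) (toGrp (ι.hom.app U q))).1
      (((him U _).1 ⟨p, rfl⟩).trans ((him U _).1 ⟨q, rfl⟩).symm)
    refine ⟨f⁻¹, ?_, fun g hg => ?_⟩
    · apply hinj U
      change toGrp (ι.hom.app U (T.smul f⁻¹ p)) = toGrp (ι.hom.app U q)
      rw [hsmul, hf, map_inv, inv_inv]
    · have h := congrArg (fun t => toGrp (ι.hom.app U t)) hg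
      simp only [hsmul] at h
      rw [hf] at h
      have h' := mul_left_cancel h
      rw [← map_inv] at h'
      exact inv_injective ((hu U h').trans (inv_inv f).symm)
  · obtain ⟨S, hS, h⟩ := hQ.2 U (c.1 (op U))
    refine ⟨S, hS, fun V a ha => ?_⟩
    obtain ⟨g, hg⟩ := h a ha
    obtain ⟨t, -⟩ := (him (op V) g).2 (hg.trans (c.2 a.op))
    exact ⟨t⟩

/-- An equivariant map of sets from `T` landing in the liftings of `c'` factors through the fibre
over `c'`. -/
lemma exists_hom_of_lift {c' : Q.P.obj.sections} {T T' : GSheaf F}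
    (ι' : T'.P ⟶ uSh G) (hinj : ∀ U : Cᵒᵖ, Function.Injective (ι'.hom.app U))
    (him : ∀ (U : Cᵒᵖ) (g : G.obj.obj U), (∃ t, toGrp (ι'.hom.app U t) = g) ↔
      π.hom.hom.app U (ofGrp g) = c'.1 U)
    (hsmul : ∀ (U : Cᵒᵖ) (f : F.obj.obj U) (t : T'.P.obj.obj U),
      toGrp (ι'.hom.app U (T'.smul f t)) = toGrp (ι'.hom.app U t) * (u.hom.app U f)⁻¹)
    (ψ : ∀ U : Cᵒᵖ, T.P.obj.obj U → G.obj.obj U)
    (hψim : ∀ U t, π.hom.hom.app U (ofGrp (ψ U t)) = c'.1 U)
    (hψnat : ∀ {U V : Cᵒᵖ} (i : U ⟶ V) (t : T.P.obj.obj U),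
      G.obj.map i (ψ U t) = ψ V (T.P.obj.map i t))
    (hψsmul : ∀ (U : Cᵒᵖ) (f : F.obj.obj U) (t : T.P.obj.obj U),
      ψ U (T.smul f t) = ψ U t * (u.hom.app U f)⁻¹) :
    ∃ φ : T ⟶ T', ∀ U t, toGrp (ι'.hom.app U (φ.hom.hom.app U t)) = ψ U t := by
  choose φ hφ using fun U (t : T.P.obj.obj U) => (him U (ψ U t)).2 (hψim U t)
  refine ⟨⟨⟨{ app := fun U => ↾(φ U), naturality := fun U V i => ?_ }⟩, fun {U} f t => ?_⟩, hφ⟩
  · ext t
    apply hinj V
    change toGrp (ι'.hom.app V (φ V (T.P.obj.map i t))) =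
      toGrp (ι'.hom.app V (T'.P.obj.map i (φ U t)))
    rw [hφ, ← hψnat, NatTrans.naturality_apply ι'.hom i (φ U t)]
    exact congrArg (G.obj.map i) (hφ U t).symm
  · apply hinj U
    change toGrp (ι'.hom.app U (φ U (T.smul f t))) = toGrp (ι'.hom.app U (T'.smul f (φ U t)))
    rw [hφ, hψsmul, hsmul, hφ]

/-- If `g • c = c'` the fibres over `c` and `c'` are isomorphic. -/
lemma iso_of_translate {c c' : Q.P.obj.sections} {T T' : GSheaf F}
    (hT : IsFibreOver u π c T) (hT' : IsFibreOver u π c' T')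
    (g : (uSh G).obj.sections) (hg : ∀ U, Q.smul (toGrp (g.1 U)) (c.1 U) = c'.1 U) :
    Nonempty (T ≅ T') := by
  obtain ⟨ι, hinj, him, hsmul⟩ := hT
  obtain ⟨ι', hinj', him', hsmul'⟩ := hT'
  have hgmap : ∀ {U V : Cᵒᵖ} (i : U ⟶ V), G.obj.map i (toGrp (g.1 U)) = toGrp (g.1 V) :=
    fun i => g.2 i
  have hιnat : ∀ {U V : Cᵒᵖ} (i : U ⟶ V) (t : T.P.obj.obj U),
      G.obj.map i (toGrp (ι.hom.app U t)) = toGrp (ι.hom.app V (T.P.obj.map i t)) :=
    fun i t => (NatTrans.naturality_apply ι.hom i t).symm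
  have hιnat' : ∀ {U V : Cᵒᵖ} (i : U ⟶ V) (t : T'.P.obj.obj U),
      G.obj.map i (toGrp (ι'.hom.app U t)) = toGrp (ι'.hom.app V (T'.P.obj.map i t)) :=
    fun i t => (NatTrans.naturality_apply ι'.hom i t).symm
  obtain ⟨φ, hφ⟩ := exists_hom_of_lift (T := T) ι' hinj' him' hsmul'
    (fun U t => toGrp (g.1 U) * toGrp (ι.hom.app U t))
    (fun U t => by rw [π_mul, (him U _).1 ⟨t, rfl⟩, hg])
    (fun i t => by rw [map_mul, hgmap, hιnat])
    (fun U f t => by rw [hsmul, mul_assoc])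
  obtain ⟨φ', hφ'⟩ := exists_hom_of_lift (T := T') ι hinj him hsmul
    (fun U t => (toGrp (g.1 U))⁻¹ * toGrp (ι'.hom.app U t))
    (fun U t => by
      rw [π_mul, (him' U _).1 ⟨t, rfl⟩, ← hg, ← Q.mul_smul, inv_mul_cancel, Q.one_smul])
    (fun i t => by rw [map_mul, map_inv, hgmap, hιnat'])
    (fun U f t => by rw [hsmul', mul_assoc])
  refine ⟨⟨φ, φ', ?_, ?_⟩⟩ <;> apply GSheaf.hom_ext <;> apply Sheaf.hom_ext <;> ext U t
  · apply hinj U
    change toGrp (ι.hom.app U (φ'.hom.hom.app U (φ.hom.hom.app U t))) = toGrp (ι.hom.app U t)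
    rw [hφ', hφ, inv_mul_cancel_left]
  · apply hinj' U
    change toGrp (ι'.hom.app U (φ.hom.hom.app U (φ'.hom.hom.app U t))) = toGrp (ι'.hom.app U t)
    rw [hφ, hφ', mul_inv_cancel_left]

lemma iso_of_isFibreOver {c : Q.P.obj.sections} {T T' : GSheaf F}
    (hT : IsFibreOver u π c T) (hT' : IsFibreOver u π c T') : Nonempty (T ≅ T') :=
  iso_of_translate hT hT' ⟨fun U => ofGrp 1, fun i => map_one (G.obj.map i).hom⟩
    (fun U => Q.one_smul _)

/-- Isomorphic fibres come from translated sections. -/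
lemma translate_of_iso (hu : ∀ U : Cᵒᵖ, Function.Injective (u.hom.app U))
    (hQ : IsQuotientBy u π) {c c' : Q.P.obj.sections} {T T' : GSheaf F}
    (hT : IsFibreOver u π c T) (hT' : IsFibreOver u π c' T') (e : T ≅ T') :
    ∃ g : (uSh G).obj.sections, ∀ U, Q.smul (toGrp (g.1 U)) (c.1 U) = c'.1 U := by
  have htor := isTorsor_of_isFibreOver hu hQ hT
  obtain ⟨ι, hinj, him, hsmul⟩ := hT
  obtain ⟨ι', hinj', him', hsmul'⟩ := hT'
  let ψ : T.P ⟶ uSh G := ⟨{
    app := fun U => ↾fun t =>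
      ofGrp (toGrp (ι'.hom.app U (e.hom.hom.hom.app U t)) * (toGrp (ι.hom.app U t))⁻¹)
    naturality := fun U V i => by
      ext t
      change toGrp (ι'.hom.app V (e.hom.hom.hom.app V (T.P.obj.map i t))) *
        (toGrp (ι.hom.app V (T.P.obj.map i t)))⁻¹ = G.obj.map i _
      rw [NatTrans.naturality_apply e.hom.hom.hom i t, NatTrans.naturality_apply ι'.hom i,
        NatTrans.naturality_apply ι.hom i t]
      change _ = G.obj.map i (_ * _)
      rw [map_mul, map_inv]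
      rfl }⟩
  obtain ⟨g, hg⟩ := glueGlobal htor.2 ψ (fun U t t' => by
    obtain ⟨f, hf, -⟩ := htor.1 U t t'
    change ofGrp (toGrp (ι'.hom.app U (e.hom.hom.hom.app U t)) * (toGrp (ι.hom.app U t))⁻¹) =
      ofGrp (toGrp (ι'.hom.app U (e.hom.hom.hom.app U t')) * (toGrp (ι.hom.app U t'))⁻¹)
    rw [← hf, e.hom.map_smul, hsmul, hsmul']
    simp [mul_assoc])
  refine ⟨g, fun U => ?_⟩
  obtain ⟨S, hS, hne⟩ := htor.2 U.unop
  refine sep Q.P hS fun V a ha => ?_
  obtain ⟨t⟩ := hne a ha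
  rw [Q.map_smul, c.2 a.op, c'.2 a.op]
  have e1 : G.obj.map a.op (toGrp (g.1 U)) =
      toGrp (ι'.hom.app (op V) (e.hom.hom.hom.app (op V) t)) * (toGrp (ι.hom.app (op V) t))⁻¹ :=
    (g.2 a.op).trans (hg (op V) t).symm
  rw [e1, ← (him (op V) _).1 ⟨t, rfl⟩, ← π_mul, inv_mul_cancel_right]
  exact (him' (op V) _).1 ⟨_, rfl⟩

/-- The liftings of `c` into `G` give a `u`-equivariant map to the trivial torsor. -/
lemma pushforward_of_isFibreOver {c : Q.P.obj.sections} {T : GSheaf F}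
    (hT : IsFibreOver u π c T) : IsPushforwardAlong u T (GSheaf.trivial G) := by
  obtain ⟨ι, -, -, hsmul⟩ := hT
  refine ⟨⟨{ app := fun U => ↾fun t => ofGrp (toGrp (ι.hom.app U t))⁻¹,
             naturality := fun U V i => ?_ }⟩, fun U f t => ?_⟩
  · ext t
    change (toGrp (ι.hom.app V (T.P.obj.map i t)))⁻¹ = G.obj.map i (toGrp (ι.hom.app U t))⁻¹
    rw [map_inv, NatTrans.naturality_apply ι.hom i t]
    rfl
  · change (toGrp (ι.hom.app U (T.smul f t)))⁻¹ = u.hom.app U f * (toGrp (ι.hom.app U t))⁻¹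
    rw [hsmul, mul_inv_rev, inv_inv]

/-- Exactness at `H¹(F)`. -/
lemma fibre_of_pushforward (hu : ∀ U : Cᵒᵖ, Function.Injective (u.hom.app U))
    (hQ : IsQuotientBy u π) (T : Torsor F)
    (h : IsPushforwardAlong u T.toGSheaf (GSheaf.trivial G)) :
    ∃ c : Q.P.obj.sections, IsFibreOver u π c T.toGSheaf := by
  obtain ⟨φ, hφ⟩ := h
  let ι : T.P ⟶ uSh G := ⟨{
    app := fun U => ↾fun t => ofGrp (toGrp (φ.hom.app U t))⁻¹
    naturality := fun U V i => by
      ext t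
      change (toGrp (φ.hom.app V (T.P.obj.map i t)))⁻¹ = G.obj.map i (toGrp (φ.hom.app U t))⁻¹
      rw [map_inv, NatTrans.naturality_apply φ.hom i t]
      rfl }⟩
  have hsmul : ∀ (U : Cᵒᵖ) (f : F.obj.obj U) (t : T.P.obj.obj U),
      toGrp (ι.hom.app U (T.smul f t)) = toGrp (ι.hom.app U t) * (u.hom.app U f)⁻¹ := by
    intro U f t
    change (toGrp (φ.hom.app U (T.smul f t)))⁻¹ = (toGrp (φ.hom.app U t))⁻¹ * (u.hom.app U f)⁻¹
    rw [hφ U f t]
    exact mul_inv_rev _ _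
  have hconst : ∀ (U : Cᵒᵖ) (t t' : T.P.obj.obj U),
      (ι ≫ π.hom).hom.app U t = (ι ≫ π.hom).hom.app U t' := by
    intro U t t'
    obtain ⟨f, hf, -⟩ := T.isTorsor.1 U t t'
    change π.hom.hom.app U (ofGrp (toGrp (ι.hom.app U t))) =
      π.hom.hom.app U (ofGrp (toGrp (ι.hom.app U t')))
    rw [← hf]
    exact (hQ.1 U _ _).2 ⟨f⁻¹, by rw [hsmul, map_inv]⟩
  obtain ⟨c, hc⟩ := glueGlobal T.isTorsor.2 (ι ≫ π.hom) hconst
  have hinj : ∀ U : Cᵒᵖ, Function.Injective (ι.hom.app U) := by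
    intro U t t' he
    obtain ⟨f, hf, -⟩ := T.isTorsor.1 U t t'
    have h1 : toGrp (ι.hom.app U t') = toGrp (ι.hom.app U t) * (u.hom.app U f)⁻¹ := by
      rw [← hf, hsmul]
    have h2 : toGrp (ι.hom.app U t') = toGrp (ι.hom.app U t) := congrArg toGrp he.symm
    rw [h2] at h1
    have h3 : u.hom.app U f = 1 := by simpa using h1
    have h4 : f = 1 := hu U (h3.trans (map_one _).symm)
    rw [← hf, h4, T.one_smul]
  refine ⟨c, ι, hinj, fun U g => ⟨?_, fun hg => ?_⟩, hsmul⟩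
  · rintro ⟨t, rfl⟩; exact hc U t
  · obtain ⟨S, hS, hne⟩ := T.isTorsor.2 U.unop
    have hloc : ∀ ⦃V : C⦄ (a : V ⟶ U.unop), S a →
        ∃ t, toGrp (ι.hom.app (op V) t) = G.obj.map a.op g := by
      intro V a ha
      obtain ⟨t⟩ := hne a ha
      have e : π.hom.hom.app (op V) (ofGrp (toGrp (ι.hom.app (op V) t))) =
          π.hom.hom.app (op V) (ofGrp (G.obj.map a.op g)) := by
        refine (hc (op V) t).trans ?_
        refine (c.2 a.op).symm.trans ?_
        rw [← hg]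
        exact (NatTrans.naturality_apply π.hom.hom a.op (ofGrp g)).symm
      obtain ⟨f, hf⟩ := (hQ.1 (op V) _ _).1 e
      exact ⟨T.smul f⁻¹ t, by rw [hsmul, map_inv, inv_inv, ← hf]⟩
    choose t ht using hloc
    have hcomp : Presieve.FamilyOfElements.Compatible
        (fun V a ha => t a ha : Presieve.FamilyOfElements T.P.obj (S : Presieve U.unop)) := by
      intro Y₁ Y₂ Z g₁ g₂ f₁ f₂ h₁ h₂ hcomm
      apply hinj (op Z)
      change toGrp (ι.hom.app _ (T.P.obj.map g₁.op (t f₁ h₁))) =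
        toGrp (ι.hom.app _ (T.P.obj.map g₂.op (t f₂ h₂)))
      rw [NatTrans.naturality_apply ι.hom g₁.op, NatTrans.naturality_apply ι.hom g₂.op]
      change G.obj.map g₁.op (toGrp (ι.hom.app _ _)) = G.obj.map g₂.op (toGrp (ι.hom.app _ _))
      rw [ht, ht, ← ConcreteCategory.comp_apply, ← ConcreteCategory.comp_apply,
        ← Functor.map_comp, ← Functor.map_comp, ← op_comp, ← op_comp, hcomm]
    let t₀ := (sheafFor T.P hS).amalgamate _ hcomp
    refine ⟨t₀, ?_⟩
    refine sep (uSh G) hS (x := ι.hom.app U t₀) (y := ofGrp g) fun V a ha => ?_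
    rw [← NatTrans.naturality_apply ι.hom a.op t₀,
      (sheafFor T.P hS).valid_glue hcomp a ha]
    exact ht a ha

/-- The fibre over `c` has a section iff `c` lifts. -/
lemma hasSection_iff {c : Q.P.obj.sections} {T : GSheaf F} (hT : IsFibreOver u π c T) :
    T.HasSection ↔ ∃ g : (uSh G).obj.sections, ∀ U, π.hom.hom.app U (g.1 U) = c.1 U := by
  obtain ⟨ι, hinj, him, -⟩ := hT
  constructor
  · rintro ⟨s, hs⟩
    refine ⟨⟨fun U => ι.hom.app U (s U), fun {U V} i => ?_⟩,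
      fun U => (him U _).1 ⟨s U, rfl⟩⟩
    rw [← NatTrans.naturality_apply ι.hom i, hs i]
  · rintro ⟨g, hg⟩
    choose t ht using fun U => (him U (toGrp (g.1 U))).2 (hg U)
    refine ⟨t, fun {U V} i => hinj V ?_⟩
    rw [NatTrans.naturality_apply ι.hom i]
    change G.obj.map i (toGrp (ι.hom.app U (t U))) = toGrp (ι.hom.app V (t V))
    rw [ht, ht]
    exact g.2 i

/-- A torsor is trivial iff it has a section. -/
lemma trivial_iff_hasSection (T : Torsor F) :
    Nonempty (T.toGSheaf ≅ GSheaf.trivial F) ↔ T.HasSection := by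
  constructor
  · rintro ⟨e⟩
    refine ⟨fun U => e.inv.hom.hom.app U (ofGrp 1), fun {U V} i => ?_⟩
    refine (NatTrans.naturality_apply e.inv.hom.hom i (ofGrp 1)).symm.trans ?_
    exact congrArg (e.inv.hom.hom.app V) (map_one (F.obj.map i).hom)
  · rintro ⟨s, hs⟩
    choose d hd hduniq using fun U (p : T.P.obj.obj U) => T.isTorsor.1 U (s U) p
    let hom : T.toGSheaf ⟶ GSheaf.trivial F :=
      ⟨⟨{ app := fun U => ↾fun p => ofGrp (d U p),
          naturality := fun U V i => by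
            ext p
            change d V (T.P.obj.map i p) = F.obj.map i (d U p)
            symm
            apply hduniq
            rw [← hs i, ← T.map_smul, hd] }⟩, fun {U} g p => by
        change d U (T.smul g p) = g * d U p
        symm
        apply hduniq
        rw [T.mul_smul, hd]⟩
    let inv : GSheaf.trivial F ⟶ T.toGSheaf :=
      ⟨⟨{ app := fun U => ↾fun g => T.smul (toGrp g) (s U),
          naturality := fun U V i => by
            ext g
            change T.smul (F.obj.map i (toGrp g)) (s V) = T.P.obj.map i (T.smul (toGrp g) (s U))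
            rw [T.map_smul, hs i] }⟩, fun {U} g h => T.mul_smul g (toGrp h) (s U)⟩
    refine ⟨⟨hom, inv, ?_, ?_⟩⟩ <;> apply GSheaf.hom_ext <;> apply Sheaf.hom_ext <;> ext U p
    · exact hd U p
    · exact (hduniq U _ _ rfl).symm

lemma cl_eq_iff {T T' : Torsor F} : T.cl = T'.cl ↔ Nonempty (T.toGSheaf ≅ T'.toGSheaf) := by
  refine ⟨fun h => ?_, fun h => Quot.sound h⟩
  have h' := Quot.eqvGen_exact h
  clear h
  induction h' with
  | rel _ _ r => exact r
  | refl _ => exact ⟨Iso.refl _⟩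
  | symm _ _ _ ih => exact ⟨ih.some.symm⟩
  | trans _ _ _ _ _ ih₁ ih₂ => exact ⟨ih₁.some ≪≫ ih₂.some⟩

end Groth.Agent.NonAbBoundary
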