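import Groth.Agent.NonAbBoundary.Basic
import Mathlib.Algebra.Category.Grp.ForgetCorepresentable
import Mathlib.CategoryTheory.Sites.CoversTop.Basic
import Mathlib.Logic.Small.Basic
import Mathlib.Logic.Small.Defs
import Mathlib.Tactic.Group

/-!
Torsors trivialised by a family of objects `U` and the Čech `H¹`: the class is well defined,
it determines the torsor when `U` covers, and every class comes from a torsor.
-/

set_option autoImplicit false
universe w' w v u

open CategoryTheory Opposite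

namespace Groth.Agent.NonAbBoundary

variable {C : Type u} [Category.{v} C] {J : GrothendieckTopology C}
variable {G : Sheaf J GrpCat.{w}} {I : Type w'} {U : I → C}

open NonAbH1 NonAbH1.GSheaf

lemma grpSheafFor (G : Sheaf J GrpCat.{w}) {W : C} {S : Sieve W} (hS : S ∈ J W) :
    Presieve.IsSheafFor (G.obj ⋙ forget GrpCat.{w}) (S : Presieve W) :=
  (Presieve.isSheafFor_iff_of_iso (Functor.isoWhiskerLeft G.obj GrpCat.coyonedaObjIsoForget)).1
    (G.property _ S hS)

lemma grp_sep (G : Sheaf J GrpCat.{w}) {W : C} {S : Sieve W} (hS : S ∈ J W)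
    {x y : G.obj.obj (op W)}
    (h : ∀ ⦃V : C⦄ (a : V ⟶ W), S a → G.obj.map a.op x = G.obj.map a.op y) : x = y :=
  (grpSheafFor G hS).isSeparatedFor.ext (fun V a ha => h a ha)

lemma grp_glue (G : Sheaf J GrpCat.{w}) {W : C} {S : Sieve W} (hS : S ∈ J W)
    (x : ∀ ⦃V : C⦄ (a : V ⟶ W), S a → G.obj.obj (op V))
    (hx : ∀ ⦃V V' : C⦄ (h : V' ⟶ V) (a : V ⟶ W) (ha : S a),
      G.obj.map h.op (x a ha) = x (h ≫ a) (S.downward_closed ha h)) :
    ∃ k : G.obj.obj (op W), ∀ ⦃V : C⦄ (a : V ⟶ W) (ha : S a), G.obj.map a.op k = x a ha := by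
  let xf : Presieve.FamilyOfElements (G.obj ⋙ forget GrpCat.{w}) S.arrows := fun V a ha => x a ha
  have hc : xf.Compatible := by
    intro Y₁ Y₂ Z g₁ g₂ f₁ f₂ h₁ h₂ hcomm
    change G.obj.map g₁.op (x f₁ h₁) = G.obj.map g₂.op (x f₂ h₂)
    rw [hx, hx]
    congr 1
  exact ⟨(grpSheafFor G hS).amalgamate xf hc, fun V a ha => (grpSheafFor G hS).valid_glue hc a ha⟩

lemma gmap_map {X Y Z : C} (h : Z ⟶ Y) (g : Y ⟶ X) (x : G.obj.obj (op X)) :
    G.obj.map h.op (G.obj.map g.op x) = G.obj.map (h ≫ g).op x := by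
  rw [op_comp, Functor.map_comp]; rfl

lemma pmap_map (P : GSheaf G) {X Y Z : C} (h : Z ⟶ Y) (g : Y ⟶ X) (x : P.P.obj.obj (op X)) :
    P.P.obj.map h.op (P.P.obj.map g.op x) = P.P.obj.map (h ≫ g).op x := by
  rw [op_comp, Functor.map_comp]; rfl

/-- In a pseudo-torsor the element carrying `p` to `q` is unique. -/
lemma smul_right_cancel {P : GSheaf G} (hP : P.IsPseudoTorsor) {X : Cᵒᵖ} {p : P.P.obj.obj X}
    {g h : G.obj.obj X} (e : P.smul g p = P.smul h p) : g = h :=
  (hP X p (P.smul h p)).unique e rfl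

lemma existsUnique_class (P : Torsor G) (hP : P.TrivialisedBy U) :
    ∃! c : PresheafOfGroups.H1 G.obj U, P.HasCechClass U c := by
  have ex : ∀ s : ∀ i, P.P.obj.obj (op (U i)),
      ∃ γ : PresheafOfGroups.OneCocycle G.obj U, P.IsCocycleOf U s γ := by
    intro s
    choose ev hev hevu using fun (i j : I) (T : C) (a : T ⟶ U i) (b : T ⟶ U j) =>
      P.isTorsor.1 (op T) (P.P.obj.map b.op (s j)) (P.P.obj.map a.op (s i))
    refine ⟨⟨⟨fun i j T a b => ev i j T a b, ?_⟩, ?_⟩, fun i j T a b => hev i j T a b⟩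
    · intro i j T T' φ a b
      refine hevu i j T (φ ≫ a) (φ ≫ b) _ ?_
      beta_reduce at hev ⊢
      rw [← pmap_map P.toGSheaf φ b, ← P.map_smul, hev, pmap_map]
    · intro i j k T a b c
      refine hevu i k T a c _ ?_
      beta_reduce at hev ⊢
      rw [P.mul_smul, hev, hev]
  obtain ⟨γ, hγ⟩ := ex fun i => (hP i).some
  refine ⟨γ.class, ⟨_, γ, hγ, rfl⟩, ?_⟩
  rintro c ⟨s', γ', hγ', rfl⟩
  choose α hα _ using fun i => P.isTorsor.1 (op (U i)) (hP i).some (s' i)
  refine (PresheafOfGroups.OneCocycle.IsCohomologous.class_eq ⟨α, ?_⟩).symm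
  intro i j T a b
  refine smul_right_cancel P.isTorsor.1 (p := P.P.obj.map b.op (hP j).some) ?_
  rw [P.mul_smul, P.mul_smul, hγ i j a b, ← P.map_smul, ← P.map_smul, hα, hα, hγ' i j a b]

section Rel

variable {P Q : GSheaf G} (s : ∀ i, P.P.obj.obj (op (U i))) (t : ∀ i, Q.P.obj.obj (op (U i)))

/-- `q` corresponds to `p` under `g • s i ↦ g • t i`. -/
def Corr {W : C} (p : P.P.obj.obj (op W)) (q : Q.P.obj.obj (op W)) : Prop :=
  ∀ ⦃V : C⦄ (f : V ⟶ W) (i : I) (b : V ⟶ U i) (g : G.obj.obj (op V)),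
    P.smul g (P.P.obj.map b.op (s i)) = P.P.obj.map f.op p →
      Q.smul g (Q.P.obj.map b.op (t i)) = Q.P.obj.map f.op q

variable {s t}

lemma corr_unique (hP : P.IsPseudoTorsor) (hU : J.CoversTop U) {W : C} {p : P.P.obj.obj (op W)}
    {q q' : Q.P.obj.obj (op W)} (h : Corr s t p q) (h' : Corr s t p q') : q = q' := by
  refine sep Q.P (hU W) ?_
  rintro V f ⟨i, ⟨b⟩⟩
  obtain ⟨g, hg, -⟩ := hP (op V) (P.P.obj.map b.op (s i)) (P.P.obj.map f.op p)
  exact (h f i b g hg).symm.trans (h' f i b g hg)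

variable {γ : PresheafOfGroups.OneCocycle G.obj U}

lemma corr_exists (hP : P.IsPseudoTorsor) (hU : J.CoversTop U)
    (hs : P.IsCocycleOf U s γ) (ht : Q.IsCocycleOf U t γ) {W : C} (p : P.P.obj.obj (op W)) :
    ∃ q, Corr s t p q := by
  have indep : ∀ {V : C} (f : V ⟶ W) (i j : I) (b : V ⟶ U i) (c : V ⟶ U j)
      (g h : G.obj.obj (op V)), P.smul g (P.P.obj.map b.op (s i)) = P.P.obj.map f.op p →
      P.smul h (P.P.obj.map c.op (s j)) = P.P.obj.map f.op p →
      Q.smul g (Q.P.obj.map b.op (t i)) = Q.smul h (Q.P.obj.map c.op (t j)) := by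
    intro V f i j b c g h hg hh
    have e : g * γ.ev i j b c = h := by
      refine smul_right_cancel hP (p := P.P.obj.map c.op (s j)) ?_
      rw [P.mul_smul, hs i j b c, hg, hh]
    rw [← e, Q.mul_smul, ht i j b c]
  let x : Presieve.FamilyOfElements Q.P.obj (Sieve.ofObjects U W).arrows := fun V f hf =>
    Q.smul (hP (op V) (P.P.obj.map hf.choose_spec.some.op (s hf.choose))
      (P.P.obj.map f.op p)).exists.choose (Q.P.obj.map hf.choose_spec.some.op (t hf.choose))
  have hx : ∀ {V : C} (f : V ⟶ W) (hf : Sieve.ofObjects U W f) (i : I) (b : V ⟶ U i)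
      (g : G.obj.obj (op V)), P.smul g (P.P.obj.map b.op (s i)) = P.P.obj.map f.op p →
      x f hf = Q.smul g (Q.P.obj.map b.op (t i)) :=
    fun f hf i b g hg => indep f _ i _ b _ g (Exists.choose_spec (hP _ _ _).exists) hg
  have hrestr : ∀ {V V' : C} (h : V' ⟶ V) (f : V ⟶ W) (hf : Sieve.ofObjects U W f),
      Q.P.obj.map h.op (x f hf) = x (h ≫ f) ((Sieve.ofObjects U W).downward_closed hf h) := by
    intro V V' h f hf
    obtain ⟨i, ⟨b⟩⟩ := id hf
    obtain ⟨g, hg, -⟩ := hP (op V) (P.P.obj.map b.op (s i)) (P.P.obj.map f.op p)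
    rw [hx f hf i b g hg, hx (h ≫ f) _ i (h ≫ b) (G.obj.map h.op g) ?_, Q.map_smul, pmap_map]
    rw [← pmap_map P h b, ← P.map_smul, hg, pmap_map]
  have hc : x.Compatible := by
    intro Y₁ Y₂ Z g₁ g₂ f₁ f₂ h₁ h₂ hcomm
    rw [hrestr, hrestr]
    congr 1
  refine ⟨(sheafFor Q.P (hU W)).amalgamate x hc, fun V f i b g hg => ?_⟩
  exact (hx f ⟨i, ⟨b⟩⟩ i b g hg).symm.trans ((sheafFor Q.P (hU W)).valid_glue hc f ⟨i, ⟨b⟩⟩).symm

lemma corr_map {W W' : C} (r : W' ⟶ W) {p : P.P.obj.obj (op W)} {q : Q.P.obj.obj (op W)}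
    (h : Corr s t p q) : Corr s t (P.P.obj.map r.op p) (Q.P.obj.map r.op q) := by
  intro V f i b g hg
  rw [pmap_map] at hg ⊢
  exact h (f ≫ r) i b g hg

lemma corr_smul {W : C} (k : G.obj.obj (op W)) {p : P.P.obj.obj (op W)}
    {q : Q.P.obj.obj (op W)} (h : Corr s t p q) : Corr s t (P.smul k p) (Q.smul k q) := by
  intro V f i b g hg
  rw [P.map_smul] at hg
  have e : P.smul ((G.obj.map f.op k)⁻¹ * g) (P.P.obj.map b.op (s i)) = P.P.obj.map f.op p := by
    rw [P.mul_smul, hg, ← P.mul_smul, inv_mul_cancel, P.one_smul]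
  rw [Q.map_smul, ← h f i b _ e, ← Q.mul_smul, mul_inv_cancel_left]

lemma corr_symm (hP : P.IsPseudoTorsor) (hQ : Q.IsPseudoTorsor) {W : C}
    {p : P.P.obj.obj (op W)} {q : Q.P.obj.obj (op W)} (h : Corr s t p q) : Corr t s q p := by
  intro V f i b g hg
  obtain ⟨g', hg', -⟩ := hP (op V) (P.P.obj.map b.op (s i)) (P.P.obj.map f.op p)
  rw [smul_right_cancel hQ (hg.trans (h f i b g' hg').symm)]
  exact hg'

lemma iso_of_same_cocycle (hU : J.CoversTop U) (hP : P.IsPseudoTorsor) (hQ : Q.IsPseudoTorsor)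
    (hs : P.IsCocycleOf U s γ) (ht : Q.IsCocycleOf U t γ) : Nonempty (P ≅ Q) := by
  choose φ hφ using fun (X : Cᵒᵖ) (p : P.P.obj.obj X) => corr_exists hP hU hs ht (W := X.unop) p
  choose ψ hψ using fun (X : Cᵒᵖ) (q : Q.P.obj.obj X) => corr_exists hQ hU ht hs (W := X.unop) q
  let hom : P ⟶ Q := ⟨⟨{ app := fun X => ↾(φ X),
                         naturality := fun X Y r => by
                           ext p
                           change φ Y (P.P.obj.map r p) = Q.P.obj.map r (φ X p)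
                           exact corr_unique hP hU (hφ Y _) (corr_map r.unop (hφ X p)) }⟩,
    fun {X} g p => corr_unique hP hU (hφ X _) (corr_smul g (hφ X p))⟩
  let inv : Q ⟶ P := ⟨⟨{ app := fun X => ↾(ψ X),
                         naturality := fun X Y r => by
                           ext q
                           change ψ Y (Q.P.obj.map r q) = P.P.obj.map r (ψ X q)
                           exact corr_unique hQ hU (hψ Y _) (corr_map r.unop (hψ X q)) }⟩,
    fun {X} g q => corr_unique hQ hU (hψ X _) (corr_smul g (hψ X q))⟩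
  refine ⟨⟨hom, inv, ?_, ?_⟩⟩ <;> apply GSheaf.hom_ext <;> apply Sheaf.hom_ext <;> ext X p
  · exact corr_unique hQ hU (hψ X (φ X p)) (corr_symm hP hQ (hφ X p))
  · exact corr_unique hP hU (hφ X (ψ X p)) (corr_symm hQ hP (hψ X p))

end Rel

lemma iso_of_hasCechClass (hU : J.CoversTop U) (P Q : Torsor G)
    (c : PresheafOfGroups.H1 G.obj U) (hPc : P.HasCechClass U c) (hQc : Q.HasCechClass U c) :
    Nonempty (P.toGSheaf ≅ Q.toGSheaf) := by
  obtain ⟨s, γ, hs, hγ⟩ := hPc
  obtain ⟨t, γ', ht, hγ'⟩ := hQc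
  obtain ⟨α, hα⟩ := (γ.class_eq_iff γ').1 (hγ.trans hγ'.symm)
  refine iso_of_same_cocycle hU P.isTorsor.1 Q.isTorsor.1 (γ := γ)
    (t := fun i => Q.smul (α i)⁻¹ (t i)) hs ?_
  intro i j T a b
  rw [Q.map_smul, Q.map_smul, ← ht i j a b, ← Q.mul_smul, ← Q.mul_smul, map_inv, map_inv]
  congr 1
  rw [eq_inv_mul_iff_mul_eq, ← mul_assoc, mul_inv_eq_iff_eq_mul]
  exact hα i j a b

section Twist

variable (G) (γ : PresheafOfGroups.OneCocycle G.obj U)

/-- A section over `W` of the torsor twisted by `γ`. -/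
@[ext]
structure Tw (W : C) where
  val : ∀ (V : C) (_ : V ⟶ W) (i : I) (_ : V ⟶ U i), G.obj.obj (op V)
  map : ∀ ⦃V V' : C⦄ (h : V' ⟶ V) (f : V ⟶ W) (i : I) (b : V ⟶ U i),
    G.obj.map h.op (val V f i b) = val V' (h ≫ f) i (h ≫ b)
  trans : ∀ ⦃V : C⦄ (f : V ⟶ W) (i j : I) (b : V ⟶ U i) (c : V ⟶ U j),
    val V f i b * γ.ev i j b c = val V f j c

variable {G γ}

/-- Restriction. -/
def Tw.res {W W' : C} (r : W' ⟶ W) (σ : Tw G γ W) : Tw G γ W' where
  val V f i b := σ.val V (f ≫ r) i b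
  map V V' h f i b := by rw [σ.map, Category.assoc]
  trans V f i j b c := σ.trans _ i j b c

/-- The action. -/
def Tw.act {W : C} (k : G.obj.obj (op W)) (σ : Tw G γ W) : Tw G γ W where
  val V f i b := G.obj.map f.op k * σ.val V f i b
  map V V' h f i b := by rw [map_mul, σ.map, gmap_map]
  trans V f i j b c := by rw [mul_assoc, σ.trans]

lemma Tw.exists_act (hU : J.CoversTop U) {W : C} (σ τ : Tw G γ W) :
    ∃! k, Tw.act k σ = τ := by
  obtain ⟨k, hk⟩ := grp_glue G (hU W)
    (fun V f hf => τ.val V f hf.choose hf.choose_spec.some *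
      (σ.val V f hf.choose hf.choose_spec.some)⁻¹) (fun V V' h f hf => by
    rw [map_mul, map_inv, σ.map, τ.map]
    generalize (Sieve.ofObjects U W).downward_closed hf h = hhf
    rw [← σ.trans (h ≫ f) hf.choose hhf.choose (h ≫ hf.choose_spec.some) hhf.choose_spec.some,
      ← τ.trans (h ≫ f) hf.choose hhf.choose (h ≫ hf.choose_spec.some) hhf.choose_spec.some]
    group)
  refine ⟨k, ?_, fun k' hk' => ?_⟩
  · ext V f i b
    change G.obj.map f.op k * σ.val V f i b = τ.val V f i b
    have hf : Sieve.ofObjects U W f := ⟨i, ⟨b⟩⟩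
    rw [hk f hf, ← σ.trans f hf.choose i hf.choose_spec.some b,
      ← τ.trans f hf.choose i hf.choose_spec.some b]
    group
  · refine grp_sep G (hU W) fun V f hf => ?_
    rw [hk f hf, ← hk']
    change _ = G.obj.map f.op k' * σ.val V f _ _ * _
    rw [mul_inv_cancel_right]

lemma small_Tw (hU : J.CoversTop U) (W : C) : Small.{w} (Tw G γ W) := by
  rcases isEmpty_or_nonempty (Tw G γ W) with h | ⟨⟨σ⟩⟩
  · infer_instance
  · exact small_of_surjective (f := fun k : G.obj.obj (op W) => Tw.act k σ)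
      fun τ => (Tw.exists_act hU σ τ).exists

/-- The tautological section over `U i`. -/
def Tw.base (i : I) : Tw G γ (U i) where
  val V f j b := γ.ev i j f b
  map V V' h f j b := γ.ev_precomp i j h f b
  trans V f j k b c := γ.ev_trans i j k f b c

/-- Gluing. -/
lemma Tw.glue {W : C} {S : Sieve W} (hS : S ∈ J W)
    (x : ∀ ⦃V : C⦄ (a : V ⟶ W), S a → Tw G γ V)
    (hx : ∀ ⦃V V' : C⦄ (h : V' ⟶ V) (a : V ⟶ W) (ha : S a),
      Tw.res h (x a ha) = x (h ≫ a) (S.downward_closed ha h)) :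
    ∃! σ : Tw G γ W, ∀ ⦃V : C⦄ (a : V ⟶ W) (ha : S a), Tw.res a σ = x a ha := by
  choose val hval using fun (V : C) (f : V ⟶ W) (i : I) (b : V ⟶ U i) =>
    grp_glue G (J.pullback_stable f hS)
      (fun V' h hh => (x (h ≫ f) hh).val V' (𝟙 _) i (h ≫ b)) (fun V' V'' h' h hh => by
        rw [(x (h ≫ f) hh).map, Category.comp_id]
        have e := congrArg (fun z : Tw G γ V'' => z.val V'' (𝟙 _) i (h' ≫ h ≫ b))
          (hx h' (h ≫ f) hh)
        simp only [Tw.res, Category.id_comp] at e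
        rw [e]
        simp [Category.assoc])
  refine ⟨⟨val, ?_, ?_⟩, ?_, ?_⟩
  · intro V V' h f i b
    refine grp_sep G (J.pullback_stable (h ≫ f) hS) fun V'' k hk => ?_
    rw [gmap_map, hval V f i b (k ≫ h) (by simpa using! hk), hval V' (h ≫ f) i (h ≫ b) k hk]
    simp [Category.assoc]
  · intro V f i j b c
    refine grp_sep G (J.pullback_stable f hS) fun V' k hk => ?_
    rw [map_mul, hval V f i b k hk, hval V f j c k hk, γ.ev_precomp]
    exact (x _ hk).trans _ i j _ _
  · intro V a ha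
    ext V' f i b
    change val V' (f ≫ a) i b = _
    refine grp_sep G (J.pullback_stable (f ≫ a) hS) fun V'' k hk => ?_
    rw [hval V' (f ≫ a) i b k hk, (x a ha).map]
    have e := congrArg (fun z : Tw G γ V'' => z.val V'' (𝟙 _) i (k ≫ b)) (hx (k ≫ f) a ha)
    simp only [Tw.res, Category.id_comp] at e
    rw [e]
    simp [Category.assoc]
  · intro σ hσ
    ext V f i b
    refine grp_sep G (J.pullback_stable f hS) fun V' k hk => ?_
    rw [σ.map, hval V f i b k hk, ← hσ (k ≫ f) hk]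
    simp [Tw.res]

/-- The presheaf of sections of the twisted torsor. -/
noncomputable def twObj (hU : J.CoversTop U) : Cᵒᵖ ⥤ Type w :=
  haveI : ∀ W : C, Small.{w} (Tw G γ W) := small_Tw hU
  { obj := fun W => Shrink.{w} (Tw G γ W.unop)
    map := fun r => ↾fun σ => equivShrink _ (Tw.res r.unop ((equivShrink _).symm σ))
    map_id := fun W => by
      refine ConcreteCategory.hom_ext _ _ fun σ => ?_
      change equivShrink _ _ = σ
      refine ((equivShrink _).eq_symm_apply).1 ?_
      ext V f i b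
      simp [Tw.res]
    map_comp := fun r r' => by
      refine ConcreteCategory.hom_ext _ _ fun σ => ?_
      change equivShrink _ _ = equivShrink _ _
      refine congrArg _ ?_
      refine Eq.trans ?_ (congrArg (Tw.res r'.unop) ((equivShrink _).symm_apply_apply _).symm)
      ext V f i b
      simp [Tw.res] }

variable (γ) in
lemma exists_twisted (hU : J.CoversTop U) :
    ∃ P : Torsor G, P.TrivialisedBy U ∧ P.HasCechClass U γ.class := by
  haveI : ∀ W : C, Small.{w} (Tw G γ W) := small_Tw hU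
  have hsheaf : Presheaf.IsSheaf J (twObj (γ := γ) hU) := by
    rw [isSheaf_iff_isSheaf_of_type]
    intro W S hS x hx
    have key := Tw.glue hS (fun V a ha => (equivShrink (Tw G γ V)).symm (x a ha))
      (fun V V' h a ha => by
        have e : (twObj (γ := γ) hU).map h.op (x a ha) = x (h ≫ a) (S.downward_closed ha h) :=
          ((Presieve.compatible_iff_sieveCompatible x).1 hx a h ha).symm
        rw [← e]
        exact ((equivShrink _).symm_apply_apply _).symm)
    obtain ⟨σ, hσ, huniq⟩ := key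
    refine ⟨equivShrink _ σ, fun V a ha => ?_, fun τ hτ => ?_⟩
    · change equivShrink _ (Tw.res a ((equivShrink _).symm (equivShrink _ σ))) = x a ha
      rw [Equiv.symm_apply_apply, hσ a ha]
      exact (equivShrink _).apply_symm_apply _
    · rw [← (equivShrink _).apply_symm_apply τ]
      congr 1
      refine huniq _ fun V a ha => ?_
      rw [← hτ a ha]
      exact ((equivShrink _).symm_apply_apply _).symm
  let P : GSheaf G :=
  { P := ⟨twObj (γ := γ) hU, hsheaf⟩
    smul := fun {W} k σ => equivShrink _ (Tw.act (W := W.unop) k ((equivShrink _).symm σ))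
    one_smul := fun {W} σ => by
      refine ((equivShrink _).eq_symm_apply).1 ?_
      ext V f i b
      simp [Tw.act]
    mul_smul := fun {W} k k' σ => by
      refine congrArg _ ?_
      refine Eq.trans ?_ (congrArg (Tw.act k) ((equivShrink _).symm_apply_apply _).symm)
      ext V f i b
      change G.obj.map f.op (k * k') * _ = _
      rw [map_mul, mul_assoc]
      rfl
    map_smul := fun {W W'} r k σ => by
      change equivShrink _ (Tw.res _ _) = equivShrink _ (Tw.act _ ((equivShrink _).symm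
        (equivShrink _ _)))
      simp only [Equiv.symm_apply_apply, EmbeddingLike.apply_eq_iff_eq]
      ext V f i b
      change G.obj.map (f ≫ r.unop).op k * _ = G.obj.map f.op _ * _
      rw [← gmap_map f r.unop]
      rfl }
  have htor : P.IsTorsor := by
    refine ⟨fun W p q => ?_, fun W => ⟨_, hU W, fun V f hf => ?_⟩⟩
    · obtain ⟨k, hk, hku⟩ := Tw.exists_act hU ((equivShrink _).symm p) ((equivShrink _).symm q)
      refine ⟨k, ?_, fun k' hk' => hku k' ?_⟩
      · change equivShrink _ _ = q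
        rw [hk]
        exact (equivShrink _).apply_symm_apply _
      · exact (Equiv.apply_eq_iff_eq_symm_apply _).1 hk'
    · obtain ⟨i, ⟨b⟩⟩ := hf
      exact ⟨equivShrink _ (Tw.res b (Tw.base i))⟩
  refine ⟨⟨P, htor⟩, fun i => ⟨equivShrink _ (Tw.base i)⟩,
    fun i => equivShrink _ (Tw.base i), γ, ?_, rfl⟩
  intro i j T a b
  change equivShrink _ (Tw.act _ ((equivShrink _).symm (equivShrink _ (Tw.res b
    ((equivShrink _).symm (equivShrink _ (Tw.base j))))))) =
    equivShrink _ (Tw.res a ((equivShrink _).symm (equivShrink _ (Tw.base i))))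
  simp only [Equiv.symm_apply_apply, EmbeddingLike.apply_eq_iff_eq]
  ext V f k c
  change G.obj.map f.op (γ.ev i j a b) * γ.ev j k (f ≫ b) c = γ.ev i k (f ≫ a) c
  rw [γ.ev_precomp, γ.ev_trans]

end Twist

end Groth.Agent.NonAbBoundary
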